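import Mathlib

/-!
# S4891 (R11): iterated commutators with a subgroup (helper87)

* `Lc U k` : `L 0 = U`, `L (k+1) = ⁅L k, U⁆`;
* `map_Lc` : these subgroups are preserved by homomorphisms;
* `commutator_closure_le` : a commutator of two generated subgroups lies in a subgroup normalised by the generators as
  soon as the commutators of the generators do.
-/

set_option autoImplicit false

open scoped commutatorElement

namespace Cfsg.Agent.H87.OC

variable {G : Type*} [Group G]

/-- the descending central series, relative to `U` -/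
def Lc (U : Subgroup G) : ℕ → Subgroup G
  | 0 => U
  | k + 1 => ⁅Lc U k, U⁆

theorem map_Lc {H : Type*} [Group H] (f : G →* H) (U : Subgroup G) (k : ℕ) : (Lc U k).map f = Lc (U.map f) k := by
  induction k with
  | zero => rfl
  | succ k ih =>
    change (⁅Lc U k, U⁆ : Subgroup G).map f = ⁅Lc (U.map f) k, U.map f⁆
    rw [Subgroup.map_commutator, ih]

theorem comm_mem_of_norm {N : Subgroup G} {a u v : G} (hv : ∀ x ∈ N, u * x * u⁻¹ ∈ N) (h1 : ⁅a, u⁆ ∈ N) (h2 : ⁅a, v⁆ ∈ N) :
    ⁅a, u * v⁆ ∈ N := by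
  have e : ⁅a, u * v⁆ = ⁅a, u⁆ * (u * ⁅a, v⁆ * u⁻¹) := by
    simp only [commutatorElement_def]
    group
  rw [e]
  exact mul_mem h1 (hv _ h2)

theorem comm_mem_of_norm' {N : Subgroup G} {a b u : G} (ha : ∀ x ∈ N, a * x * a⁻¹ ∈ N) (h1 : ⁅a, u⁆ ∈ N) (h2 : ⁅b, u⁆ ∈ N) :
    ⁅a * b, u⁆ ∈ N := by
  have e : ⁅a * b, u⁆ = (a * ⁅b, u⁆ * a⁻¹) * ⁅a, u⁆ := by
    simp only [commutatorElement_def]
    group
  rw [e]
  exact mul_mem (ha _ h2) h1

/-- **commutators of generated subgroups** -/
theorem commutator_closure_le {A B : Set G} {N : Subgroup G} (hA : A ⊆ Subgroup.normalizer (N : Set G))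
    (hB : B ⊆ Subgroup.normalizer (N : Set G)) (h : ∀ a ∈ A, ∀ b ∈ B, ⁅a, b⁆ ∈ N) :
    ⁅Subgroup.closure A, Subgroup.closure B⁆ ≤ N := by
  have hA' : Subgroup.closure A ≤ Subgroup.normalizer (N : Set G) := (Subgroup.closure_le _).2 hA
  have hB' : Subgroup.closure B ≤ Subgroup.normalizer (N : Set G) := (Subgroup.closure_le _).2 hB
  have hn : ∀ {g : G}, g ∈ Subgroup.normalizer (N : Set G) → ∀ x ∈ N, g * x * g⁻¹ ∈ N := fun hg x hx =>
    (Subgroup.mem_normalizer_iff.1 hg x).1 hx
  have h1 : ∀ a ∈ A, ∀ b ∈ Subgroup.closure B, ⁅a, b⁆ ∈ N := by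
    intro a ha b hb
    induction hb using Subgroup.closure_induction with
    | mem x hx => exact h a ha x hx
    | one => rw [commutatorElement_one_right]; exact one_mem _
    | mul x y hx _ h1 h2 => exact comm_mem_of_norm (hn (hB' hx)) h1 h2
    | inv x hx h1 =>
      have e : ⁅a, x⁻¹⁆ = x⁻¹ * ⁅a, x⁆⁻¹ * (x⁻¹)⁻¹ := by
        simp only [commutatorElement_def]
        group
      rw [e]
      exact hn (inv_mem (hB' hx)) _ (inv_mem h1)
  rw [Subgroup.commutator_le]
  intro a ha b hb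
  induction ha using Subgroup.closure_induction with
  | mem x hx => exact h1 x hx b hb
  | one => rw [commutatorElement_one_left]; exact one_mem _
  | mul x y hx _ h1 h2 => exact comm_mem_of_norm' (hn (hA' hx)) h1 h2
  | inv x hx h1 =>
    have e : ⁅x⁻¹, b⁆ = x⁻¹ * ⁅x, b⁆⁻¹ * (x⁻¹)⁻¹ := by
      simp only [commutatorElement_def]
      group
    rw [e]
    exact hn (inv_mem (hA' hx)) _ (inv_mem h1)

/-- a set closed under inverses normalises a generated subgroup as soon as it maps the generators into it -/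
theorem subset_normalizer {A B : Set G} (hinv : ∀ b ∈ B, b⁻¹ ∈ B)
    (h : ∀ b ∈ B, ∀ a ∈ A, b * a * b⁻¹ ∈ Subgroup.closure A) :
    B ⊆ Subgroup.normalizer (Subgroup.closure A : Set G) := by
  have key : ∀ b ∈ B, ∀ x ∈ Subgroup.closure A, b * x * b⁻¹ ∈ Subgroup.closure A := by
    intro b hb x hx
    have : Subgroup.closure A ≤ (Subgroup.closure A).comap (MulAut.conj b).toMonoidHom :=
      (Subgroup.closure_le _).2 fun a ha => h b hb a ha
    exact this hx
  intro b hb
  rw [SetLike.mem_coe, Subgroup.mem_normalizer_iff]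
  intro x
  refine ⟨key b hb x, fun hx => ?_⟩
  have h1 := key _ (hinv b hb) _ hx
  have e : b⁻¹ * (b * x * b⁻¹) * (b⁻¹)⁻¹ = x := by group
  rwa [e] at h1

end Cfsg.Agent.H87.OC
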